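import Groth.Agent.Lib.KernelKL22.Poincare
import Groth.Agent.Lib.MumVan22.Vanish

/-!
# The fibres of a class with the properties of a Poincaré class
-/

universe u

open CategoryTheory Limits MonoidalCategory CartesianMonoidalCategory AlgebraicGeometry TopologicalSpace Opposite
open scoped MonObj GrpObj

set_option linter.style.haveILetI false
set_option linter.unusedSectionVars false
set_option maxHeartbeats 1000000
set_option backward.isDefEq.respectTransparency false

noncomputable section

namespace Groth.Agent.Poinc13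

open Groth.Agent.AbDual21 Groth.Agent.PicDesc21

/-- The properties of a Poincaré class which the computation of its cohomology uses. -/
structure IsPLike {S : Scheme.{u}} (A Q : Over S) [GrpObj A] [GrpObj Q] (P : (PicF.XT A.hom Q).Modules) : Prop where
  mul : ∀ {V : Over S} (f g : V ⟶ A) (t : V ⟶ Q),
    PicF.pullCl (lift (f * g) t).left (PicF.cl P) =
      PicGrp.mulCl (PicF.pullCl (lift f t).left (PicF.cl P)) (PicF.pullCl (lift g t).left (PicF.cl P))
  triv : ∀ {T : Over S} (q : T ⟶ Q), PicF.pullCl (A ◁ q).left (PicF.cl P) = triv A T ↔ q = 1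
  dim : topologicalKrullDim A.left ≤ topologicalKrullDim Q.left

section Field

noncomputable local instance instLawPF (Y : Scheme.{u}) : PicGrp.Law Y := M2.law Y

variable {k : Type u} [Field k] {A At : Over (Spec (CommRingCat.of k))} [GrpObj A] [GrpObj At]
  [IsProper A.hom] [Smooth A.hom] [GeometricallyConnected A.hom] [IsSeparated At.hom]
  {P : (PicF.XT A.hom At).Modules}
  (hP : PicF.IsInvertible P) (hD : IsPLike A At P)

include hP hD

/-- Away from the origin all cohomology of the fibre vanishes. -/
theorem subsingleton_fibre [GeometricallyIntegral A.hom] {K : Type u} [Field K] [Algebra k K]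
    (q : Over.mk (Spec.map (CommRingCat.ofHom (algebraMap k K))) ⟶ At) (hq : q ≠ 1) (p : ℕ) :
    Subsingleton (Coh.HH (Red.bc (Spec.map (CommRingCat.ofHom (algebraMap k K))) A).left
      ((Scheme.Modules.pullback (A ◁ q).left).obj P) p) := by
  let σ := Spec.map (CommRingCat.ofHom (algebraMap k K))
  let B := Red.bc σ A
  haveI : IsProper B.hom := MorphismProperty.pullback_snd _ _ inferInstance
  haveI : GeometricallyIntegral B.hom := MorphismProperty.pullback_snd _ _ inferInstance
  let ρ : B.left ⟶ (A ⊗ At).left := (A ◁ q).left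
  have hM : PicF.IsInvertible ((Scheme.Modules.pullback ρ).obj P) := PicLoc.isInvertible_pullback _ hP
  refine MumVan22.subsingleton_of_add (A := B) hM ?_ ?_ p
  · intro V f g
    have key : ∀ x : V ⟶ B, x.left ≫ ρ =
        (lift (DiagGL.fl σ A x) ((Over.homMk V.hom rfl : (Over.map σ).obj V ⟶ Over.mk σ) ≫ q)).left := by
      intro x
      let t := (Over.homMk V.hom rfl : (Over.map σ).obj V ⟶ Over.mk σ) ≫ q
      apply pullback.hom_ext
      · show (x.left ≫ (A ◁ q).left) ≫ (fst A At).left = (lift (DiagGL.fl σ A x) t ≫ fst A At).left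
        rw [Category.assoc, ← Over.comp_left, whiskerLeft_fst, lift_fst]
        simp [DiagGL.fl]
        rfl
      · show (x.left ≫ (A ◁ q).left) ≫ (snd A At).left = (lift (DiagGL.fl σ A x) t ≫ snd A At).left
        rw [Category.assoc, ← Over.comp_left, whiskerLeft_snd, lift_snd]
        show x.left ≫ pullback.snd A.hom σ ≫ q.left = V.hom ≫ q.left
        rw [← Category.assoc]
        exact congrArg (· ≫ q.left) (Over.w x)
    apply Subtype.ext
    rw [PicGrp.mul_val]
    simp only [AlgEquiv22.pb, PicGrp.pullHom_cls, PicGrp.cls_val]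
    show PicF.pullCl (f * g).left (PicF.pullCl ρ (PicF.cl P)) =
      PicGrp.mulCl (PicF.pullCl f.left (PicF.pullCl ρ (PicF.cl P))) (PicF.pullCl g.left (PicF.pullCl ρ (PicF.cl P)))
    rw [pullCl_pullCl, pullCl_pullCl, pullCl_pullCl, key, key, key, DiagGL.fl_mul]
    exact hD.mul _ _ _
  · intro ht
    refine hq ((hD.triv q).1 ?_)
    exact (PicGrp.cl_eq_cl_iff _ _).2 ht

end Field

end Groth.Agent.Poinc13
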