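import Groth.Agent.Lib.Poinc13.Global
import Groth.Agent.Lib.TwistBC9.LocFree
import Groth.Agent.Lib.TwistBC9.H0Push
import Groth.Agent.Lib.DPush9.AffineAcyclic

/-!
# The derived direct image of a module with the properties of a Poincaré module
-/

universe u

open CategoryTheory Limits MonoidalCategory CartesianMonoidalCategory AlgebraicGeometry TopologicalSpace Opposite
open scoped MonObj GrpObj

set_option linter.style.haveILetI false
set_option linter.unusedSectionVars false
set_option maxHeartbeats 1600000
set_option maxRecDepth 4000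
set_option backward.isDefEq.respectTransparency false

attribute [local instance] HasDerivedCategory.standard

noncomputable section

namespace Groth.Agent.Poinc13

open Groth.Agent.Poincare22
open Groth.Agent.AbDual21 Groth.Agent.PicDesc21 Groth.Agent.CohFound Groth.Agent.CBC10 Groth.Agent.MumVan22

attribute [local instance] DBC9.hasRpush

/-- Cohomology of the derived direct image of a module. -/
theorem nonempty_hd_rpush {X Y : Scheme.{u}} (f : X ⟶ Y) [HasInjectiveResolutions X.Modules] (M : X.Modules) (p : ℕ) :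
    Nonempty (DCoh.HD ((DCoh.Rpush f).obj ((DerivedCategory.singleFunctor X.Modules 0).obj M)) (p : ℤ) ≅
      (Coh.Rpush f p).obj M) := by
  let F := Scheme.Modules.pushforward f
  let R := injectiveResolution M
  haveI : IsIso (DerivedCategory.Q.map R.ι') := inferInstance
  let a : (DCoh.Rpush f).obj ((DerivedCategory.singleFunctor X.Modules 0).obj M) ≅
      DerivedCategory.Q.obj ((F.mapHomologicalComplex (ComplexShape.up ℤ)).obj R.cochainComplex) :=
    (DCoh.Rpush f).mapIso ((DerivedCategory.singleFunctorIsoCompQ X.Modules 0).app M ≪≫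
      asIso (DerivedCategory.Q.map R.ι')) ≪≫ (DMV.pushIso f R.cochainComplex).symm
  exact ⟨(DerivedCategory.homologyFunctor _ _).mapIso a ≪≫ (DerivedCategory.homologyFunctorFactors _ _).app _ ≪≫
    RFPlus.homologyMapResolutionIso F R p⟩

/-- The derived direct image of a module is in non-negative degrees. -/
theorem isZero_hd_rpush_neg {X Y : Scheme.{u}} (f : X ⟶ Y) (M : X.Modules) (i : ℤ) (hi : i < 0) :
    IsZero (DCoh.HD ((DCoh.Rpush f).obj ((DerivedCategory.singleFunctor X.Modules 0).obj M)) i) := by
  let F := Scheme.Modules.pushforward f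
  let R := injectiveResolution M
  haveI : IsIso (DerivedCategory.Q.map R.ι') := inferInstance
  let a : (DCoh.Rpush f).obj ((DerivedCategory.singleFunctor X.Modules 0).obj M) ≅
      DerivedCategory.Q.obj ((F.mapHomologicalComplex (ComplexShape.up ℤ)).obj R.cochainComplex) :=
    (DCoh.Rpush f).mapIso ((DerivedCategory.singleFunctorIsoCompQ X.Modules 0).app M ≪≫
      asIso (DerivedCategory.Q.map R.ι')) ≪≫ (DMV.pushIso f R.cochainComplex).symm
  refine IsZero.of_iso ?_ ((DerivedCategory.homologyFunctor _ _).mapIso a ≪≫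
    (DerivedCategory.homologyFunctorFactors _ _).app _)
  haveI : CochainComplex.IsStrictlyGE ((F.mapHomologicalComplex (ComplexShape.up ℤ)).obj R.cochainComplex) 0 :=
    (CochainComplex.isStrictlyGE_iff _ _).2 fun j hj =>
      F.map_isZero (R.cochainComplex.isZero_of_isStrictlyGE 0 j hj)
  exact HomologicalComplex.ExactAt.isZero_homology ((HomologicalComplex.exactAt_iff _ i).2
    (ShortComplex.exact_of_isZero_X₂ _ (CochainComplex.isZero_of_isStrictlyGE
      ((F.mapHomologicalComplex (ComplexShape.up ℤ)).obj R.cochainComplex) 0 i hi)))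

variable {k : Type u} [Field k] {A At : Over (Spec (CommRingCat.of k))} [GrpObj A] [GrpObj At]
  [IsProper A.hom] [Smooth A.hom] [GeometricallyConnected A.hom] [GeometricallyIntegral A.hom]
  [IsProper At.hom] [Smooth At.hom] [GeometricallyIntegral At.hom]
  {P : (PicF.XT A.hom At).Modules}
  (hP : PicF.IsInvertible P) (hD : IsPLike A At P)

include hP hD in
omit [Smooth At.hom] [GeometricallyIntegral At.hom] in
/-- Near a point other than the origin all direct images vanish. -/
theorem exists_isZero_punctured [HasInjectiveResolutions (A ⊗ At).left.Modules] (p : ℕ) :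
    ∀ x ∈ punctured At, ∃ W : At.left.Opens, W ≤ punctured At ∧ x ∈ W ∧
      IsZero (((Coh.Rpush (snd A At).left p).obj P).restrict W.ι) := by
  intro x hx
  haveI : IsProper (snd A At).left := inferInstanceAs (IsProper (pullback.snd A.hom At.hom))
  haveI : Flat (snd A At).left := AbRigid.flat_snd_left A At
  haveI : IsLocallyNoetherian At.left := LocallyOfFiniteType.isLocallyNoetherian At.hom
  have hfl : FlatMod.IsFlatOver (snd A At).left P := DPerf.isFlatOver_of_isFlat (snd A At).left (M := P) fun x =>
    KFlat.Sch.isFlat_of_isFinLocFree (M2.isFinLocFree_of_isInvertible hP) x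
  have hcoh := CubeField.isCoh_of_isInvertible hP
  obtain ⟨W, hW, hxW, hWO⟩ := exists_isAffineOpen_mem_and_subset (X := At.left) (x := x) (U := punctured At) hx
  obtain ⟨C, -, -, -, -, hC⟩ := exists_complexOn hcoh hfl hW
  refine ⟨W, hWO, hxW, isZero_rpush_restrict _ hcoh.1 hW hC p ?_⟩
  obtain ⟨eT⟩ := nonempty_T_equiv_HH (snd A At).left hcoh.1 hW hC p
  have hv := van_of_fibres (snd A At).left hcoh hfl hW
    (fun y hy q => subsingleton_fiber hP hD (hWO hy) q) p
  obtain ⟨e'⟩ := nonempty_HHon_addEquiv P ((snd A At).left ⁻¹ᵁ W) p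
  haveI : Subsingleton (Coh.HH ((snd A At).left ⁻¹ᵁ W : (A ⊗ At).left.Opens) (resU (snd A At).left P W) p) :=
    @Equiv.subsingleton _ _ e'.toEquiv hv
  exact eT.toEquiv.subsingleton

include hP hD in
/-- The higher direct images: none outside degree `g`, the origin in degree `g`. -/
theorem rpush_main {g : ℕ} (hg : topologicalKrullDim A.left = g)
    [HasInjectiveResolutions (A ⊗ At).left.Modules] :
    (∀ i : ℕ, i ≠ g → IsZero ((Coh.Rpush (snd A At).left i).obj P)) ∧
      Nonempty ((Coh.Rpush (snd A At).left g).obj P ≅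
        (Coh.push η[At].left).obj (Coh.structureModule (Spec (CommRingCat.of k)))) := by
  obtain ⟨hAt, V, hV, ev, hev, C, heV, hC, hH, ⟨eH⟩⟩ := exists_local hP hD hg
  haveI : IsProper (snd A At).left := inferInstanceAs (IsProper (pullback.snd A.hom At.hom))
  haveI : Flat (snd A At).left := AbRigid.flat_snd_left A At
  haveI : IsLocallyNoetherian At.left := LocallyOfFiniteType.isLocallyNoetherian At.hom
  have hcoh := CubeField.isCoh_of_isInvertible hP
  have hcov : V ⊔ punctured At = ⊤ := top_le_iff.1 fun w _ => by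
    by_cases hw : w = origin At
    · exact Or.inl (hw ▸ heV)
    · exact Or.inr hw
  refine ⟨fun i hi => ?_, ?_⟩
  · refine Groth.Agent.CohMop.isZero_of_restrict fun x => ?_
    by_cases hx : x = origin At
    · refine ⟨V, hx ▸ heV, isZero_rpush_restrict _ hcoh.1 hV hC i ?_⟩
      rcases lt_or_gt_of_ne hi with h | h
      · exact hH _ (by omega)
      · letI := overU (snd A At).left hV
        obtain ⟨eT⟩ := nonempty_T_equiv_HH (snd A At).left hcoh.1 hV hC i
        haveI : Subsingleton (Hc ((abF _).obj P) i ((snd A At).left ⁻¹ᵁ V)) :=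
          VanFib13.subsingleton_hc_affine (snd A At).left hV g
            (fun w _ => by rw [Index22.dim_fibre_snd, hg]) hcoh.1 h
        obtain ⟨e'⟩ := nonempty_HHon_addEquiv P ((snd A At).left ⁻¹ᵁ V) i
        haveI : Subsingleton (Coh.HH ((snd A At).left ⁻¹ᵁ V : (A ⊗ At).left.Opens) (resU (snd A At).left P V) i) :=
          e'.toEquiv.subsingleton
        exact eT.toEquiv.subsingleton
    · obtain ⟨W, -, hxW, hW⟩ := exists_isZero_punctured hP hD i x hx
      exact ⟨W, hxW, hW⟩
  · obtain ⟨i₁⟩ := nonempty_iso_pushforward_restrict hV.fromSpec ((Coh.Rpush (snd A At).left g).obj P)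
      (O := punctured At) (by rw [hV.opensRange_fromSpec, hcov]) (exists_isZero_punctured hP hD g)
    obtain ⟨i₂⟩ := hC.nonempty_rpush_iso hcoh.1 g
    let φe : CommRingCat.of Γ(At.left, V) ⟶ CommRingCat.of k := ev
    let q : (Γ(At.left, V) ⧸ RingHom.ker ev.hom) ≃+* k :=
      RingHom.quotientKerEquivOfSurjective fun c => ⟨_, ev_cst hV hev c⟩
    let l : ModuleCat.of Γ(At.left, V) (FlatCxLib.H C (-(g : ℤ))) ≅
        (ModuleCat.restrictScalars φe.hom).obj (ModuleCat.of k k) :=
      LinearEquiv.toModuleIso (X₂ := (ModuleCat.restrictScalars φe.hom).obj (ModuleCat.of k k))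
        { eH.toAddEquiv.trans q.toAddEquiv with
          map_smul' := fun a x => by
            show q (eH (a • x)) = ev.hom a * q (eH x)
            rw [map_smul, Algebra.smul_def, map_mul]
            rfl }
    exact ⟨i₁ ≪≫ (Scheme.Modules.pushforward hV.fromSpec).mapIso (i₂ ≪≫
        (tilde.functor (CommRingCat.of Γ(At.left, V))).mapIso l ≪≫
        ((DPush9.tildePushIso φe).app (ModuleCat.of k k)).symm ≪≫
        (Scheme.Modules.pushforward (Spec.map φe)).mapIso (tildeSelf (R := CommRingCat.of k))) ≪≫
      (Scheme.Modules.pushforwardComp (Spec.map φe) hV.fromSpec).app _ ≪≫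
      (Scheme.Modules.pushforwardCongr hev).app _⟩

include hP hD in
/-- In the derived category the direct image is the origin in degree `g`. -/
theorem nonempty_rpush_origin {g : ℕ} (hg : topologicalKrullDim A.left = g) :
    Nonempty ((DCoh.Rpush (snd A At).left).obj ((DerivedCategory.singleFunctor (A ⊗ At).left.Modules 0).obj P) ≅
      (shiftFunctor (DCoh.D At.left) (-(g : ℤ))).obj ((DCoh.Rpush η[At].left).obj
        ((DerivedCategory.singleFunctor (Spec (CommRingCat.of k)).Modules 0).obj
          (Coh.structureModule (Spec (CommRingCat.of k)))))) := by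
  obtain ⟨h0, ⟨e⟩⟩ := rpush_main hP hD hg
  set E := (DCoh.Rpush (snd A At).left).obj ((DerivedCategory.singleFunctor (A ⊗ At).left.Modules 0).obj P)
  have hz : ∀ i : ℤ, i ≠ (g : ℤ) → IsZero (DCoh.HD E i) := fun i hi => by
    rcases lt_or_ge i 0 with h | h
    · exact isZero_hd_rpush_neg _ P i h
    · obtain ⟨p, rfl⟩ : ∃ p : ℕ, i = p := ⟨i.toNat, by omega⟩
      obtain ⟨a⟩ := nonempty_hd_rpush (snd A At).left P p
      exact (h0 p fun h' => hi (by rw [h'])).of_iso a
  haveI : E.IsGE (g : ℤ) := (DerivedCategory.isGE_iff _ _).2 fun i hi => hz i (by omega)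
  haveI : E.IsLE (g : ℤ) := (DerivedCategory.isLE_iff _ _).2 fun i hi => hz i (by omega)
  obtain ⟨M, ⟨eM⟩⟩ := DerivedCategory.exists_iso_singleFunctor_obj_of_isGE_of_isLE E (g : ℤ)
  obtain ⟨a⟩ := nonempty_hd_rpush (snd A At).left P g
  let m : M ≅ (Coh.push η[At].left).obj (Coh.structureModule (Spec (CommRingCat.of k))) :=
    ((DerivedCategory.singleFunctorCompHomologyFunctorIso At.left.Modules (g : ℤ)).app M).symm ≪≫
      (DerivedCategory.homologyFunctor _ _).mapIso eM.symm ≪≫ a ≪≫ e
  haveI : IsClosedImmersion η[At].left := isClosedImmersion_of_comp_eq_id At.hom η[At].left (Over.w η[At])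
  obtain ⟨r⟩ := TwistBC9.nonempty_rpush_inD_of_acyclic η[At].left (Coh.structureModule (Spec (CommRingCat.of k)))
    (M1.isQCoh_structureModule _) (DPush9.isAcyclicObj_affine _ (M1.isQCoh_structureModule _))
  exact ⟨eM ≪≫ (DerivedCategory.singleFunctor At.left.Modules (g : ℤ)).mapIso m ≪≫
    (((DerivedCategory.singleFunctors At.left.Modules).shiftIso (-(g : ℤ)) (g : ℤ) 0 (by omega)).app _).symm ≪≫
    (shiftFunctor (DCoh.D At.left) (-(g : ℤ))).mapIso r.symm⟩

end Groth.Agent.Poinc13

end
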