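import Groth.Agent.Lib.Poincare22.Point
import Groth.Agent.Lib.Poincare22.Trivial
import Groth.Agent.Lib.Poincare22.Local
import Groth.Agent.Lib.Poinc13.Fibres
import Groth.Agent.Lib.CBC10.Near
import Groth.Agent.Lib.CubeField.Fin
import Groth.Agent.Lib.MumVan22.Surj
import Groth.Agent.Lib.AbRigid.SmoothGI

/-!
# The complex of a Poincaré module over an affine neighbourhood of the origin
-/

universe u

open CategoryTheory Limits MonoidalCategory CartesianMonoidalCategory AlgebraicGeometry TopologicalSpace Opposite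
open scoped MonObj GrpObj

set_option linter.style.haveILetI false
set_option linter.unusedSectionVars false
set_option maxHeartbeats 1000000
set_option maxRecDepth 4000
set_option backward.isDefEq.respectTransparency false

noncomputable section

namespace Groth.Agent.Poinc13

open Groth.Agent.AbDual21 Groth.Agent.PicDesc21 RigidRel
open Groth.Agent.Poincare22

variable {k : Type u} [Field k] {A At : Over (Spec (CommRingCat.of k))} [GrpObj A] [GrpObj At]
  [IsProper A.hom] [Smooth A.hom] [GeometricallyConnected A.hom] [GeometricallyIntegral A.hom] [IsProper At.hom]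
  {P : (PicF.XT A.hom At).Modules}
  (hP : PicF.IsInvertible P) (hD : IsPLike A At P)
  {V : At.left.Opens} (hV : IsAffineOpen V)

variable (K : Type u) [CommRing K] [Algebra Γ(At.left, V) K]
variable {ev : Γ(At.left, V) ⟶ CommRingCat.of k} (hev : Spec.map ev ≫ hV.fromSpec = η[At].left)
include hev
variable {C : ChainComplex (ModuleCat.{u} Γ(At.left, V)) ℤ} (hC : CBC10.ComputesOn (snd A At).left P hV C)

include hP hD hC in
omit K in
/-- Away from the origin the fibres are acyclic. -/
theorem dRank_eq_zero [IsNoetherianRing Γ(At.left, V)]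
    [∀ i, Module.Finite Γ(At.left, V) (C.X i)] [∀ i, Module.Flat Γ(At.left, V) (C.X i)] (hpos : ∀ p : ℤ, 0 < p → ∀ M : ModuleCat.{u} Γ(At.left, V), Subsingleton (CohIII.T C p M))
    (q : ℤ) (x : PrimeSpectrum Γ(At.left, V)) (hx : x.asIdeal ≠ RingHom.ker ev.hom) : CohIII.dRank C q x = 0 := by
  haveI : IsProper (snd A At).left := inferInstanceAs (IsProper (pullback.snd A.hom At.hom))
  let K := x.asIdeal.ResidueField
  have h0 : Subsingleton (CohIII.T C q (ModuleCat.of Γ(At.left, V) K)) := by
    rcases lt_or_ge 0 q with hq | hq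
    · exact hpos q hq _
    obtain ⟨p, rfl⟩ : ∃ p : ℕ, q = -(p : ℤ) := ⟨(-q).toNat, by omega⟩
    letI : (A ⊗ base (k := k) hV K).left.Over (Spec (CommRingCat.of K)) :=
      ⟨pullback.snd A.hom (base (k := k) hV K).hom⟩
    obtain ⟨ε, -⟩ := hC.exists_bc (CubeField.isCoh_of_isInvertible hP).1 (B := K) (X' := (A ⊗ base (k := k) hV K).left)
      (isPullback_pt hV K)
    letI := cstAlg (k := k) hV K
    have hne : pt hV K ≠ 1 := fun h => hx (((isMaximal_ker hV hev).eq_of_le x.isPrime.ne_top (fun c hc => by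
      have := (pt_eq_one_iff hV K hev).1 h hc
      rwa [RingHom.mem_ker, Ideal.algebraMap_residueField_eq_zero] at this)).symm)
    have := subsingleton_fibre hP hD (pt hV K) hne p
    exact @Equiv.subsingleton _ _ (ε p).toEquiv this
  have := (CBC10.subsingleton_T_field_iff C K q).1 h0
  rwa [comap_residueField] at this

include hP hD hC in
omit K in
/-- Degree zero homology is corepresented by the residue field of the origin. -/
theorem corep_residue [IsNoetherianRing Γ(At.left, V)]
    [∀ i, Module.Finite Γ(At.left, V) (C.X i)] [∀ i, Module.Flat Γ(At.left, V) (C.X i)]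
    (hpos : ∀ p : ℤ, 0 < p → ∀ M : ModuleCat.{u} Γ(At.left, V), Subsingleton (CohIII.T C p M))
    (M : Type u) [AddCommGroup M] [Module Γ(At.left, V) M] :
    Nonempty (CohIII.T C 0 (ModuleCat.of Γ(At.left, V) M) ≃ₗ[Γ(At.left, V)]
      ((Γ(At.left, V) ⧸ RingHom.ker ev.hom) →ₗ[Γ(At.left, V)] M)) := by
  set m := RingHom.ker ev.hom with hm
  haveI := isMaximal_ker hV hev
  haveI := AbRigid.geometricallyReduced_of_smooth A.hom
  -- the fibre at the origin
  have hone : Nonempty (CohIII.T C 0 (ModuleCat.of Γ(At.left, V) (Γ(At.left, V) ⧸ m)) ≃ₗ[Γ(At.left, V)]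
      Γ(At.left, V) ⧸ m) := by
    let K := Γ(At.left, V) ⧸ m
    obtain ⟨Θ, hΘ⟩ := exists_sections hP hV K hC
    have hq : pt hV K = 1 := (pt_eq_one_iff hV K hev).2 fun c hc => Ideal.Quotient.eq_zero_iff_mem.2 hc
    obtain ⟨ιI⟩ := (PicGrp.cl_eq_cl_iff _ _).1 ((PicLoc.pullCl_cl _ _).symm.trans ((hD.triv (pt hV K)).2 hq))
    let ρ : Γ((Scheme.Modules.pullback (A ◁ pt hV K).left).obj P, ⊤) ≃+
        Γ(Coh.structureModule (A ⊗ base (k := k) hV K).left, ⊤) :=
      { toFun := ιI.hom.app ⊤
        invFun := ιI.inv.app ⊤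
        left_inv := fun s => by
          show (ιI.hom ≫ ιI.inv).app ⊤ s = s
          rw [Iso.hom_inv_id]; rfl
        right_inv := fun s => by
          show (ιI.inv ≫ ιI.hom).app ⊤ s = s
          rw [Iso.inv_hom_id]; rfl
        map_add' := map_add _ }
    let r := ringMap (R := CommRingCat.of K) (pullback.snd A.hom (base (k := k) hV K).hom) ⊤
    have hr : Function.Bijective r := by
      show Function.Bijective (ringMap (R := CommRingCat.of K) (pullback.snd A.hom (base (k := k) hV K).hom) ⊤).hom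
      rw [RigidRel.ringMap_top, CommRingCat.hom_comp, RingHom.coe_comp]
      exact (bijective_appTop_snd A _ _).comp (Scheme.ΓSpecIso _).symm.commRingCatIsoToRingEquiv.bijective
    let eK : K ≃+ Γ(Coh.structureModule (A ⊗ base (k := k) hV K).left, ⊤) := AddEquiv.ofBijective r.hom.toAddMonoidHom hr
    refine ⟨(((Θ.trans ρ).trans eK.symm)).toLinearEquiv fun a x => ?_⟩
    refine eK.symm_apply_eq.2 ?_
    show ρ (Θ (a • x)) = r (a • eK.symm (ρ (Θ x)))
    rw [hΘ, Algebra.smul_def, map_mul]
    refine (Scheme.Modules.Hom.app_smul ιI.hom _ _).trans ?_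
    congr 1
    exact (eK.apply_symm_apply _).symm
  obtain ⟨I, n, hn, hIm, hI⟩ := exists_cyclic C m hpos (fun x hx => dRank_eq_zero hP hD hV hev hC hpos 0 x hx) hone
  obtain rfl : I = m := by
    by_contra hne
    have hle : ¬ m ≤ I := fun h => hne (le_antisymm hIm h)
    classical
    let N := Nat.find (p := fun i => m ^ i ≤ I) ⟨n, hn⟩
    have hN : m ^ N ≤ I := Nat.find_spec (p := fun i => m ^ i ≤ I) ⟨n, hn⟩
    obtain ⟨j, hj⟩ : ∃ j, N = j + 1 := Nat.exists_eq_succ_of_ne_zero fun h => by
      rw [h, pow_zero, Ideal.one_eq_top] at hN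
      exact hle (le_top.trans hN)
    have hjI : ¬ m ^ j ≤ I := fun h => by
      have : N ≤ j := Nat.find_le h
      omega
    obtain ⟨c, hc, hcI⟩ := SetLike.not_le_iff_exists.1 hjI
    let B := Γ(At.left, V) ⧸ I
    obtain ⟨Θ, hΘ⟩ := exists_sections hP hV B hC
    obtain ⟨eI⟩ := hI B
    let x := eI.symm LinearMap.id
    have hsurj : Function.Surjective (Ideal.Quotient.mk I) := Ideal.Quotient.mk_surjective
    let mB : Ideal B := m.map (Ideal.Quotient.mk I)
    haveI : mB.IsMaximal := Ideal.IsMaximal.map_of_surjective_of_ker_le hsurj (by rw [Ideal.mk_ker]; exact hIm)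
    have hcb : ∀ b ∈ mB, Ideal.Quotient.mk I c * b = 0 := fun b hb => by
      obtain ⟨d, hd, rfl⟩ := (Ideal.mem_map_iff_of_surjective _ hsurj).1 hb
      rw [← map_mul, Ideal.Quotient.eq_zero_iff_mem]
      exact hN (by rw [hj, pow_succ]; exact Ideal.mul_mem_mul hc hd)
    have hnil : mB ≤ nilradical B := fun b hb => by
      obtain ⟨d, hd, rfl⟩ := (Ideal.mem_map_iff_of_surjective _ hsurj).1 hb
      refine mem_nilradical.2 ⟨N, ?_⟩
      rw [← map_pow, Ideal.Quotient.eq_zero_iff_mem]
      exact hN (Ideal.pow_mem_pow hd N)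
    let ξ' : (A ⊗ base (k := k) hV B).left ⟶ Spec (CommRingCat.of B) := pullback.snd A.hom (base (k := k) hV B).hom
    have ht : ringMap (R := CommRingCat.of B) ξ' ⊤ (Ideal.Quotient.mk I c) • Θ x ≠ 0 := fun h => hcI (by
      have h' : Θ (c • x) = 0 := (hΘ c x).trans h
      rw [AddEquiv.map_eq_zero_iff] at h'
      have h1 := congrArg eI h'
      rw [map_smul, map_zero, LinearEquiv.apply_symm_apply] at h1
      have h2 := LinearMap.congr_fun h1 (Ideal.Quotient.mk I 1)
      refine Ideal.Quotient.eq_zero_iff_mem.1 (Eq.trans ?_ h2)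
      show _ = Ideal.Quotient.mk I (c * 1)
      rw [mul_one])
    letI := Ideal.Quotient.field mB
    let j₀ := RigidRel.quotBase (R := CommRingCat.of B) mB
    haveI : IsProper ξ' := MorphismProperty.pullback_snd _ _ inferInstance
    haveI : GeometricallyIntegral ξ' := MorphismProperty.pullback_snd _ _ inferInstance
    haveI : GeometricallyIntegral (pullback.snd ξ' j₀) := MorphismProperty.pullback_snd _ _ inferInstance
    haveI : Subsingleton ↥(Spec (CommRingCat.of (B ⧸ mB))) := inferInstanceAs (Subsingleton (PrimeSpectrum (B ⧸ mB)))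
    haveI : IsIntegral (pullback ξ' j₀) := GeometricallyIntegral.isIntegral_of_subsingleton (pullback.snd ξ' j₀)
    let T₀ : Over (Spec (CommRingCat.of k)) := Over.mk (j₀ ≫ (base (k := k) hV B).hom)
    let jj : T₀ ⟶ base (k := k) hV B := Over.homMk j₀ rfl
    have hq₀ : jj ≫ pt hV B = 1 := by
      apply Over.OverMorphism.ext
      rw [Hom.one_def, Over.comp_left, Over.comp_left, Over.toUnit_left]
      show j₀ ≫ Spec.map (CommRingCat.ofHom (algebraMap Γ(At.left, V) B)) ≫ hV.fromSpec = _
      rw [← Category.assoc, ← Spec.map_comp, ← CommRingCat.ofHom_comp]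
      refine (left_eq hV hev _ fun d hd => ?_).trans ?_
      · exact Ideal.Quotient.eq_zero_iff_mem.2 (Ideal.mem_map_of_mem _ hd)
      · show _ = (j₀ ≫ Spec.map (CommRingCat.ofHom ((algebraMap Γ(At.left, V) B).comp (cst (k := k) hV)))) ≫ η[At].left
        rw [← Spec.map_comp]
        rfl
    have h0 : Nonempty ((Scheme.Modules.pullback (pullback.fst ξ' j₀)).obj
        ((Scheme.Modules.pullback (A ◁ pt hV B).left).obj P) ≅ Coh.structureModule (pullback ξ' j₀)) := by
      let u : pullback ξ' j₀ ⟶ (A ⊗ T₀).left := pullback.lift (pullback.fst ξ' j₀ ≫ pullback.fst _ _) (pullback.snd ξ' j₀) (by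
        show _ = pullback.snd ξ' j₀ ≫ j₀ ≫ (base (k := k) hV B).hom
        rw [Category.assoc, pullback.condition, ← Category.assoc, ← pullback.condition_assoc]
        rfl)
      have hu : pullback.fst ξ' j₀ ≫ (A ◁ pt hV B).left = u ≫ (A ◁ (jj ≫ pt hV B)).left := by
        rw [whiskerLeft_comp, Over.comp_left, ← Category.assoc]
        refine congrArg (· ≫ (A ◁ pt hV B).left) ?_
        apply pullback.hom_ext
        · rw [Category.assoc]
          refine Eq.trans ?_ (congrArg (u ≫ ·) (congrArg CommaMorphism.left (whiskerLeft_fst A jj)).symm)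
          exact (pullback.lift_fst _ _ _).symm
        · rw [Category.assoc]
          refine Eq.trans ?_ (congrArg (u ≫ ·) (congrArg CommaMorphism.left (whiskerLeft_snd A jj)).symm)
          show _ = u ≫ pullback.snd A.hom T₀.hom ≫ j₀
          rw [← Category.assoc, show u ≫ pullback.snd A.hom T₀.hom = pullback.snd ξ' j₀ from pullback.lift_snd _ _ _]
          exact pullback.condition
      refine (PicGrp.cl_eq_cl_iff _ _).1 ?_
      rw [← PicLoc.pullCl_cl, ← PicLoc.pullCl_cl, pullCl_pullCl, hu, ← pullCl_pullCl, (hD.triv _).2 hq₀]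
      exact pullCl_structure u
    have htriv := nonempty_iso_of_smul_ne_zero (R := CommRingCat.of B) ξ' mB (Ideal.Quotient.mk I c) hcb hnil
      (PicLoc.isInvertible_pullback _ hP) h0 (Θ x) ht
    have hq : pt hV B = 1 :=
      (hD.triv (pt hV B)).1 ((PicLoc.pullCl_cl _ _).trans ((PicGrp.cl_eq_cl_iff _ _).2 htriv))
    exact hle fun d hd => Ideal.Quotient.eq_zero_iff_mem.1 ((pt_eq_one_iff hV B hev).1 hq hd)
  exact hI M

end Groth.Agent.Poinc13
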