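import Groth.Agent.Lib.Poincare22.Global
import Groth.Agent.Lib.Poinc13.Local
import Groth.Agent.Lib.Poincare22.Dim
import Groth.Agent.Lib.Poincare22.Restrict
import Groth.Agent.Lib.Index22.Pair
import Groth.Agent.Lib.CohMop.ExtResolution
import Groth.Agent.Lib.DPush9.Tilde
import Groth.Agent.Lib.AbRigid.SmoothGI

/-!
# The cohomology of a Poincaré module
-/

universe u

open CategoryTheory Limits MonoidalCategory CartesianMonoidalCategory AlgebraicGeometry TopologicalSpace Opposite
open scoped MonObj GrpObj

set_option linter.style.haveILetI false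
set_option linter.unusedSectionVars false
set_option maxHeartbeats 1000000
set_option maxRecDepth 4000
set_option backward.isDefEq.respectTransparency false

noncomputable section

namespace Groth.Agent.Poinc13

open Groth.Agent.Poincare22
open Groth.Agent.AbDual21 Groth.Agent.PicDesc21 Groth.Agent.CohFound Groth.Agent.CBC10 Groth.Agent.MumVan22

variable {k : Type u} [Field k] {A At : Over (Spec (CommRingCat.of k))} [GrpObj A] [GrpObj At]
  [IsProper A.hom] [Smooth A.hom] [GeometricallyConnected A.hom] [GeometricallyIntegral A.hom]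
  [IsProper At.hom] [Smooth At.hom] [GeometricallyIntegral At.hom]
  {P : (PicF.XT A.hom At).Modules}
  (hP : PicF.IsInvertible P) (hD : IsPLike A At P)

include hP hD in
omit [Smooth At.hom] [GeometricallyIntegral At.hom] in
/-- Away from the origin the fibres are acyclic. -/
theorem subsingleton_fiber {y : At.left} (hy : y ≠ origin At) (p : ℕ) :
    Subsingleton (CohIII.fiberH (snd A At).left P y p) := by
  let K := At.left.residueField y
  let s : Spec K ⟶ Spec (CommRingCat.of k) := At.left.fromSpecResidueField y ≫ At.hom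
  letI : Algebra k K := (Spec.preimage s).hom.toAlgebra
  have hs : Spec.map (CommRingCat.ofHom (algebraMap k K)) = s := Spec.map_preimage _
  let σ := Spec.map (CommRingCat.ofHom (algebraMap k K))
  let q : Over.mk σ ⟶ At := Over.homMk (At.left.fromSpecResidueField y) hs.symm
  have hq : q ≠ 1 := fun h => hy (by
    rw [Hom.one_def] at h
    have h1 : At.left.fromSpecResidueField y = σ ≫ η[At].left :=
      (congrArg (fun f : Over.mk σ ⟶ At => f.left) h).trans (by rw [Over.comp_left, Over.toUnit_left]; rfl)
    rw [← Scheme.fromSpecResidueField_apply y (IsLocalRing.closedPoint _), h1, Scheme.Hom.comp_apply]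
    exact congrArg η[At].left (@Subsingleton.elim _ (inferInstanceAs (Subsingleton (PrimeSpectrum k))) _ _))
  have hpb : IsPullback (A ◁ q).left (pullback.snd A.hom σ) (snd A At).left (At.left.fromSpecResidueField y) := by
    refine IsPullback.of_right ?_ (congrArg (fun f : A ⊗ Over.mk σ ⟶ At => f.left) (whiskerLeft_snd A q))
      (IsPullback.of_hasPullback A.hom At.hom)
    have h1 : (A ◁ q).left ≫ pullback.fst A.hom At.hom = pullback.fst A.hom σ :=
      congrArg (fun f : A ⊗ Over.mk σ ⟶ A => f.left) (whiskerLeft_fst A q)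
    rw [h1]
    rw [show At.left.fromSpecResidueField y ≫ At.hom = σ from hs.symm]
    exact IsPullback.of_hasPullback A.hom σ
  let e : pullback A.hom σ ≅ (snd A At).left.fiber y := hpb.isoIsPullback _ _ (IsPullback.of_hasPullback _ _)
  have he : e.hom ≫ (snd A At).left.fiberι y = (A ◁ q).left := IsPullback.isoIsPullback_hom_fst _ _ _ _
  show Subsingleton (Coh.HH _ (CohIII.fiberMod (snd A At).left P y) p)
  refine (subsingleton_HH_iso_iff e.hom
    (PicLoc.isInvertible_pullback _ hP : PicF.IsInvertible (CohIII.fiberMod (snd A At).left P y)) p).1 ?_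
  let i := (Scheme.Modules.pullbackComp e.hom ((snd A At).left.fiberι y)).app P ≪≫
    (Scheme.Modules.pullbackCongr he).app P
  exact (CBC10.hmapEquiv i p).toEquiv.subsingleton_congr.2 (subsingleton_fibre hP hD q hq p)

include hP hD in
/-- An affine neighbourhood of the origin on which the complex is understood. -/
theorem exists_local {g : ℕ} (hg : topologicalKrullDim A.left = g) :
    topologicalKrullDim At.left = g ∧
    ∃ (V : At.left.Opens) (hV : IsAffineOpen V) (ev : Γ(At.left, V) ⟶ CommRingCat.of k)
      (_ : Spec.map ev ≫ hV.fromSpec = η[At].left) (C : ChainComplex (ModuleCat.{u} Γ(At.left, V)) ℤ),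
      origin At ∈ V ∧ ComputesOn (snd A At).left P hV C ∧
      (∀ p : ℤ, -(g : ℤ) < p → Subsingleton (FlatCxLib.H C p)) ∧
      Nonempty (FlatCxLib.H C (-(g : ℤ)) ≃ₗ[Γ(At.left, V)] Γ(At.left, V) ⧸ RingHom.ker ev.hom) := by
  haveI : IsProper (snd A At).left := inferInstanceAs (IsProper (pullback.snd A.hom At.hom))
  haveI : Flat (snd A At).left := AbRigid.flat_snd_left A At
  haveI : IsLocallyNoetherian At.left := LocallyOfFiniteType.isLocallyNoetherian At.hom
  obtain ⟨V, hV, heV, -⟩ :=
    exists_isAffineOpen_mem_and_subset (X := At.left) (x := origin At) (U := ⊤) trivial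
  have hrange : Set.range η[At].left ⊆ Set.range hV.fromSpec := by
    rintro _ ⟨z, rfl⟩
    rw [hV.range_fromSpec, @Subsingleton.elim _ (inferInstanceAs (Subsingleton (PrimeSpectrum k))) z (IsLocalRing.closedPoint k)]
    exact heV
  let ev : Γ(At.left, V) ⟶ CommRingCat.of k := Spec.preimage (IsOpenImmersion.lift hV.fromSpec η[At].left hrange)
  have hev : Spec.map ev ≫ hV.fromSpec = η[At].left := by
    rw [Spec.map_preimage, IsOpenImmersion.lift_fac]
  haveI := isMaximal_ker hV hev
  set m := RingHom.ker ev.hom with hm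
  have hprime : (hV.primeIdealOf ⟨origin At, heV⟩).asIdeal = m := by
    have h1 : hV.fromSpec (Spec.map ev (IsLocalRing.closedPoint k)) = origin At := by
      rw [← Scheme.Hom.comp_apply, hev]; rfl
    have h2 : hV.primeIdealOf ⟨origin At, heV⟩ = Spec.map ev (IsLocalRing.closedPoint k) :=
      hV.fromSpec.isOpenEmbedding.injective ((hV.fromSpec_primeIdealOf _).trans h1.symm)
    rw [h2]
    exact ((Ideal.IsMaximal.eq_of_le inferInstance (Ideal.IsPrime.ne_top inferInstance) fun c hc => by
      show ev.hom c ∈ IsLocalRing.maximalIdeal k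
      rw [show ev.hom c = 0 from hc]
      exact zero_mem _) : m = _).symm
  haveI : IsRegularLocalRing (At.left.presheaf.stalk (origin At)) := SmoothReg17.isRegularLocalRing_stalk At.hom _
  letI := At.left.presheaf.algebra_section_stalk (⟨origin At, heV⟩ : V)
  haveI hloc := hV.isLocalization_stalk ⟨origin At, heV⟩
  haveI : IsLocalization.AtPrime (At.left.presheaf.stalk (origin At)) m := by
    have h' : ∀ (q : Ideal Γ(At.left, V)) [q.IsPrime], (hV.primeIdealOf ⟨origin At, heV⟩).asIdeal = q →
        IsLocalization.AtPrime (At.left.presheaf.stalk (origin At)) q := by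
      rintro q _ rfl
      exact hloc
    exact h' m hprime
  let e := (IsLocalization.algEquiv m.primeCompl (At.left.presheaf.stalk (origin At)) (Localization.AtPrime m)).toRingEquiv
  haveI : IsRegularLocalRing (Localization.AtPrime m) := IsRegularLocalRing.of_ringEquiv e
  set h := (IsLocalRing.maximalIdeal (Localization.AtPrime m)).spanFinrank
  have hh : ringKrullDim (Localization.AtPrime m) = (h : WithBot ℕ∞) :=
    (IsRegularLocalRing.spanFinrank_maximalIdeal (R := Localization.AtPrime m)).symm
  have hAt : topologicalKrullDim At.left = (h : WithBot ℕ∞) := by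
    rw [← GrpField.ringKrullDim_stalk_eq At _ isClosed_origin, ringKrullDim_eq_of_ringEquiv e, hh]
  have hfl : FlatMod.IsFlatOver (snd A At).left P := DPerf.isFlatOver_of_isFlat (snd A At).left (M := P) fun x =>
    KFlat.Sch.isFlat_of_isFinLocFree (M2.isFinLocFree_of_isInvertible hP) x
  have hcoh := CubeField.isCoh_of_isInvertible hP
  obtain ⟨C, hfin, hflat, -, hpos, hC⟩ := exists_complexOn hcoh hfl hV
  haveI := hfin
  haveI := hflat
  haveI : IsNoetherianRing Γ(At.left, V) := IsLocallyNoetherian.component_noetherian ⟨V, hV⟩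
  obtain ⟨hH, ⟨eH⟩⟩ := equiv_residue C m hh hpos (fun q x hx => dRank_eq_zero hP hD hV hev hC hpos q x hx)
    (fun M _ _ => corep_residue hP hD hV hev hC hpos M)
  have hle : g ≤ h := by
    have := hD.dim
    rw [hg, hAt] at this
    exact_mod_cast this
  obtain rfl : h = g := by
    refine (le_antisymm hle (not_lt.1 fun hlt => ?_)).symm
    letI := overU (snd A At).left hV
    obtain ⟨eT⟩ := nonempty_T_equiv_HH (snd A At).left hcoh.1 hV hC h
    haveI : Subsingleton (Hc ((abF _).obj P) h ((snd A At).left ⁻¹ᵁ V)) :=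
      VanFib13.subsingleton_hc_affine (snd A At).left hV g
        (fun w _ => by rw [Index22.dim_fibre_snd, hg]) hcoh.1 hlt
    obtain ⟨e'⟩ := nonempty_HHon_addEquiv P ((snd A At).left ⁻¹ᵁ V) h
    haveI : Subsingleton (Coh.HH ((snd A At).left ⁻¹ᵁ V : (A ⊗ At).left.Opens) (resU (snd A At).left P V) h) :=
      e'.toEquiv.subsingleton
    haveI := eT.toEquiv.subsingleton
    haveI : Subsingleton (Γ(At.left, V) ⧸ m) := eH.symm.toEquiv.subsingleton
    exact (isMaximal_ker hV hev).ne_top
      ((Ideal.eq_top_iff_one _).2 (Ideal.Quotient.eq_zero_iff_mem.1 (Subsingleton.elim _ 0)))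
  exact ⟨hAt, V, hV, ev, hev, C, heV, hC, hH, ⟨eH⟩⟩


include hP hD in
/-- The cohomology of a Poincaré module and of its projection. -/
theorem main {g : ℕ} (hg : topologicalKrullDim A.left = g)
    [HasInjectiveResolutions (A ⊗ At).left.Modules] :
    (∀ i : ℕ, i ≠ g → Subsingleton (Coh.HH (A ⊗ At).left P i)) ∧
      @Module.finrank k (Coh.HH (A ⊗ At).left P g) _ _
        (@Coh.moduleOver k _ (A ⊗ At).left ⟨pullback.fst A.hom At.hom ≫ A.hom⟩ P g) = 1 := by
  obtain ⟨hAt, V, hV, ev, hev, C, heV, hC, hH, ⟨eH⟩⟩ := exists_local hP hD hg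
  haveI : IsProper (snd A At).left := inferInstanceAs (IsProper (pullback.snd A.hom At.hom))
  haveI : Flat (snd A At).left := AbRigid.flat_snd_left A At
  haveI : IsLocallyNoetherian At.left := LocallyOfFiniteType.isLocallyNoetherian At.hom
  haveI : CompactSpace At.left := QuasiCompact.compactSpace_of_compactSpace At.hom
  haveI : IsNoetherian At.left := {}
  have hfl : FlatMod.IsFlatOver (snd A At).left P := DPerf.isFlatOver_of_isFlat (snd A At).left (M := P) fun x =>
    KFlat.Sch.isFlat_of_isFinLocFree (M2.isFinLocFree_of_isInvertible hP) x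
  have hcoh := CubeField.isCoh_of_isInvertible hP
  have hcov : V ⊔ punctured At = ⊤ := top_le_iff.1 fun w _ => by
    by_cases hw : w = origin At
    · exact Or.inl (hw ▸ heV)
    · exact Or.inr hw
  refine ⟨fun i hi => ?_, ?_⟩
  · exact Index22.subsingleton_HH_of_finite (snd A At).left hcoh hfl g
      (fun y _ => SmoothReg17.isRegularLocalRing_stalk At.hom y)
      (fun y hy => (GrpField.ringKrullDim_stalk_eq At y hy).trans hAt)
      (fun w => by rw [Index22.dim_fibre_snd, hg]) (Set.finite_singleton (origin At))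
      (fun s hs => by rw [Set.mem_singleton_iff.1 hs]; exact isClosed_origin)
      (fun y hy q => subsingleton_fiber hP hD hy q) hi
  · have hvan : ∀ U : At.left.Opens, U ≤ punctured At → Van (snd A At).left P U := fun U hU =>
      van_of_fibres_qc (snd A At).left hcoh hfl (fun y hy q => subsingleton_fiber hP hD hy q)
        (NoetherianSpace.isCompact _) hU
    have hb : Function.Bijective (rs ((abF (A ⊗ At).left).obj P) g
        (le_top : ((snd A At).left ⁻¹ᵁ V : Opens (sp (A ⊗ At).left)) ≤ ⊤)) := by
      refine rs_bijective_top (V := (snd A At).left ⁻¹ᵁ punctured At) ?_ (hvan _ le_rfl) (fun n => ?_) g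
      · rw [← Scheme.Hom.preimage_sup, hcov]; rfl
      · have := hvan (V ⊓ punctured At) inf_le_right n
        rwa [Scheme.Hom.preimage_inf] at this
    letI : (A ⊗ At).left.Over (Spec (CommRingCat.of k)) := ⟨pullback.fst A.hom At.hom ≫ A.hom⟩
    obtain ⟨e₁⟩ := nonempty_linearEquiv_restrict (k := k) ((snd A At).left ⁻¹ᵁ V) P g hb
    letI O₂ : ((snd A At).left ⁻¹ᵁ V : (A ⊗ At).left.Opens).toScheme.Over (Spec (CommRingCat.of k)) :=
      ⟨((snd A At).left ⁻¹ᵁ V).ι ≫ ((A ⊗ At).left ↘ Spec (CommRingCat.of k))⟩
    letI O₁ := overU (snd A At).left hV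
    obtain ⟨eT⟩ := nonempty_T_equiv_HH (snd A At).left hcoh.1 hV hC g
    let q : (Γ(At.left, V) ⧸ RingHom.ker ev.hom) ≃+* k :=
      RingHom.quotientKerEquivOfSurjective fun c => ⟨_, ev_cst hV hev c⟩
    let e₂ : Coh.HH ((snd A At).left ⁻¹ᵁ V : (A ⊗ At).left.Opens) (resU (snd A At).left P V) g ≃+ k :=
      (eT.symm.trans eH).toAddEquiv.trans q.toAddEquiv
    have hst : ((snd A At).left ⁻¹ᵁ V).ι ≫ pullback.fst A.hom At.hom ≫ A.hom =
        (((snd A At).left ∣_ V) ≫ hV.isoSpec.hom) ≫ Spec.map (CommRingCat.ofHom (cst (k := k) hV)) := by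
      rw [map_cst hV, ← Category.assoc _ hV.fromSpec, ← (isPullback_overU (snd A At).left hV).w, pullback.condition,
        Category.assoc]
      rfl
    refine (LinearEquiv.finrank_eq (e₁.trans (e₂.toLinearEquiv fun c x => ?_))).trans (Module.finrank_self k)
    show e₂ (Coh.toGlobal (((snd A At).left ⁻¹ᵁ V).ι ≫ pullback.fst A.hom At.hom ≫ A.hom) c • x) = c * e₂ x
    rw [hst, toGlobal_comp_map]
    have h1 : (eT.symm.trans eH) (cst (k := k) hV c • x) = cst (k := k) hV c • (eT.symm.trans eH) x := map_smul _ _ _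
    refine (congrArg q h1).trans ?_
    rw [Algebra.smul_def, map_mul]
    congr 1
    exact ev_cst hV hev c

end Groth.Agent.Poinc13
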